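import Groth.Prelude
import Groth.Agent.Lib.SchQuot.FlatBaseChange
import Groth.Agent.Lib.SchQuot.Transport

/-!
Quotients by finite groups whose order is invertible: base change, composition, products, and
passage from a clopen piece to its orbit.
-/

universe u

open CategoryTheory CategoryTheory.Limits AlgebraicGeometry TopologicalSpace Opposite
open scoped TensorProduct

noncomputable section

namespace Groth.Agent.Lib.SymSplit.Quot

open Groth.Agent.Lib

/-- Every positive integer is invertible on `Y`. -/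
def Inv (Y : Scheme.{u}) : Prop := ∀ n : ℕ, 0 < n → IsUnit ((n : ℕ) : Γ(Y, ⊤))

theorem Inv.of_hom {X Y : Scheme.{u}} (f : X ⟶ Y) (h : Inv Y) : Inv X := fun n hn => by
  have := (h n hn).map f.appTop.hom
  rwa [map_natCast] at this

theorem Inv.isUnit {X : Scheme.{u}} (h : Inv X) (U : X.Opens) {n : ℕ} (hn : 0 < n) :
    IsUnit ((n : ℕ) : Γ(X, U)) := by
  have := (h n hn).map (X.presheaf.map (homOfLE (le_top : U ≤ ⊤)).op).hom
  rwa [map_natCast] at this

theorem Inv.of_field {k : Type u} [Field k] [CharZero k] {Y : Scheme.{u}}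
    (p : Y ⟶ Spec (CommRingCat.of k)) : Inv Y := Inv.of_hom p fun n hn => by
  have := (IsUnit.mk0 (n : k) (Nat.cast_ne_zero.mpr hn.ne')).map
    (Scheme.ΓSpecIso (CommRingCat.of k)).inv.hom
  rwa [map_natCast] at this

/-- The fixed points commute with any base change if the order is invertible. -/
theorem range_of_fixed {G B A B' A' : Type u} [Group G] [Fintype G] [CommRing B] [CommRing A]
    [CommRing B'] [CommRing A'] [Algebra B A] [Algebra B B'] [Algebra B' A'] [Algebra A A']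
    [Algebra B A'] [IsScalarTower B B' A'] [IsScalarTower B A A'] [Algebra.IsPushout B B' A A']
    (hu : IsUnit (Fintype.card G : B)) (hinj : Function.Injective (algebraMap B A))
    (σ : G → (A →ₐ[B] A)) (hmul : ∀ g h a, σ h (σ g a) = σ (g * h) a)
    (σ' : G → (A' →ₐ[B'] A')) (hσ : ∀ i a, σ' i (algebraMap A A' a) = algebraMap A A' (σ i a))
    (hfix : ∀ a, (∀ i, σ i a = a) → a ∈ Set.range (algebraMap B A)) :
    Function.Injective (algebraMap B' A') ∧
      ∀ s : A', (∀ i, σ' i s = s) → s ∈ Set.range (algebraMap B' A') := by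
  let e := Algebra.IsPushout.equiv B B' A A'
  obtain ⟨u, hu⟩ := hu.exists_left_inv
  have hkey : ∀ a, ∃ b, algebraMap B A b = u • ∑ g, σ g a := fun a => by
    refine hfix _ fun h => ?_
    rw [map_smul, map_sum]
    simp only [hmul]
    exact congrArg _ (Equiv.sum_comp (Equiv.mulRight h) fun g => σ g a)
  choose f hf using hkey
  let π : A →ₗ[B] B :=
    { toFun := f
      map_add' := fun a b => hinj (by simp only [map_add, hf, Finset.sum_add_distrib, smul_add])
      map_smul' := fun c a => hinj (by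
        rw [RingHom.id_apply, smul_eq_mul, map_mul, hf, hf, ← Algebra.smul_def, smul_comm c u,
          Finset.smul_sum (r := c)]
        simp only [map_smul]) }
  have hπ : ∀ b, π (algebraMap B A b) = b := fun b => hinj (by
    show algebraMap B A (f _) = _
    rw [hf]
    simp only [AlgHom.commutes, Finset.sum_const, Finset.card_univ, ← Nat.cast_smul_eq_nsmul B,
      smul_smul, hu, one_smul])
  have hone : ∀ b' : B', algebraMap B' A' b' = e (b' ⊗ₜ[B] algebraMap B A 1) := fun b' => by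
    rw [Algebra.IsPushout.equiv_tmul, map_one, map_one, mul_one]
  refine ⟨fun a b hab => ?_, fun s hs => ?_⟩
  · rw [hone, hone] at hab
    have := congrArg (fun z => TensorProduct.rid B B' (π.lTensor B' z)) (e.injective hab)
    simpa only [LinearMap.lTensor_tmul, TensorProduct.rid_tmul, hπ, one_smul] using this
  · obtain ⟨z, rfl⟩ := e.surjective s
    have hsum : ∀ z : B' ⊗[B] A, algebraMap B' A' (TensorProduct.rid B B' (π.lTensor B' z)) =
        algebraMap B A' u * ∑ g, σ' g (e z) := fun z => by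
      induction z using TensorProduct.induction_on with
      | zero => simp
      | add x y hx hy => simp only [map_add, hx, hy, Finset.sum_add_distrib, mul_add]
      | tmul b' a =>
        have h1 : ∀ g, σ' g (e (b' ⊗ₜ[B] a)) = algebraMap B' A' b' * algebraMap A A' (σ g a) :=
          fun g => by rw [Algebra.IsPushout.equiv_tmul, map_mul, AlgHom.commutes, hσ]
        rw [LinearMap.lTensor_tmul, TensorProduct.rid_tmul]
        simp only [h1]
        rw [← Finset.mul_sum, ← map_sum, Algebra.smul_def, map_mul,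
          ← IsScalarTower.algebraMap_apply B B' A', IsScalarTower.algebraMap_apply B A A' (π a),
          show algebraMap B A (π a) = u • ∑ g, σ g a from hf a, Algebra.smul_def, map_mul,
          ← IsScalarTower.algebraMap_apply B A A']
        ring
    refine ⟨TensorProduct.rid B B' (π.lTensor B' z), ?_⟩
    rw [hsum, Finset.sum_congr rfl fun g _ => hs g, Finset.sum_const, Finset.card_univ, nsmul_eq_mul,
      ← mul_assoc, ← map_natCast (algebraMap B A') (Fintype.card G), ← map_mul, hu, map_one, one_mul]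

/-- Base change of quotients by groups of invertible order. -/
theorem isQuot_baseChange {X Y X' Y' : Scheme.{u}} {G : Type u} [Group G] [Finite G]
    {ρ : G →* Aut X} {p : X ⟶ Y} (hp : SGA1.IsQuot ρ p) (hY : Inv Y) {qY : Y' ⟶ Y} {pX : X' ⟶ X}
    {p' : X' ⟶ Y'} (hX : IsPullback pX p' p qY) (ρ' : G →* Aut X')
    (hρ₁ : ∀ g : G, (ρ' g).hom ≫ pX = pX ≫ (ρ g).hom) (hρ₂ : ∀ g : G, (ρ' g).hom ≫ p' = p') :
    SGA1.IsQuot ρ' p' := by
  have := hp.affine
  have : IsAffineHom p' := MorphismProperty.of_isPullback hX hp.affine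
  cases nonempty_fintype G
  have key : ∀ V : Y'.Opens, IsAffineOpen V →
      (∃ U : Y.Opens, IsAffineOpen U ∧ V ≤ qY ⁻¹ᵁ U) →
      Function.Injective (p'.app V).hom ∧
        ∀ s, (∀ g : G, SchQuot.IsQuot.pull hρ₂ g V s = s) → s ∈ Set.range (p'.app V).hom := by
    rintro V hV ⟨U, hU, hVU⟩
    have hXle : p' ⁻¹ᵁ V ≤ pX ⁻¹ᵁ (p ⁻¹ᵁ U) := fun x hx => by
      show p (pX x) ∈ U
      rw [← Scheme.Hom.comp_apply, hX.w]
      exact hVU hx
    have hUY : p' ⁻¹ᵁ V = pX ⁻¹ᵁ (p ⁻¹ᵁ U) ⊓ p' ⁻¹ᵁ V := (inf_eq_right.mpr hXle).symm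
    have hpo := (isIso_pushoutSection_iff hX hVU le_rfl hUY).mp
      (isIso_pushoutSection_of_isAffineOpen hX hVU le_rfl hUY hU hV (hU.preimage p))
    let := (p.app U).hom.toAlgebra
    let := (qY.appLE U V hVU).hom.toAlgebra
    let := (p'.app V).hom.toAlgebra
    let := (pX.appLE (p ⁻¹ᵁ U) (p' ⁻¹ᵁ V) hXle).hom.toAlgebra
    let := ((p'.app V).hom.comp (qY.appLE U V hVU).hom).toAlgebra
    have : IsScalarTower Γ(Y, U) Γ(Y', V) Γ(X', p' ⁻¹ᵁ V) := .of_algebraMap_eq fun _ => rfl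
    have hw : p.app U ≫ pX.appLE (p ⁻¹ᵁ U) (p' ⁻¹ᵁ V) hXle = qY.appLE U V hVU ≫ p'.app V := by
      simp only [Scheme.Hom.app_eq_appLE, Scheme.Hom.appLE_comp_appLE, hX.w]
    have : IsScalarTower Γ(Y, U) Γ(X, p ⁻¹ᵁ U) Γ(X', p' ⁻¹ᵁ V) :=
      .of_algebraMap_eq fun b => congr($(hw.symm) b)
    have : Algebra.IsPushout Γ(Y, U) Γ(Y', V) Γ(X, p ⁻¹ᵁ U) Γ(X', p' ⁻¹ᵁ V) := by
      refine CommRingCat.isPushout_iff_isPushout.mp ?_
      show IsPushout (qY.appLE U V hVU) (p.app U) (p'.app V) (pX.appLE (p ⁻¹ᵁ U) (p' ⁻¹ᵁ V) hXle)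
      simp only [Scheme.Hom.app_eq_appLE]
      exact hpo.flip
    have hcb : ∀ g b, SchQuot.IsQuot.pull hp.inv g U (p.app U b) = p.app U b := fun g b => by
      rw [← CommRingCat.comp_apply, SchQuot.IsQuot.app_pull hp]
    have hcb' : ∀ g b, SchQuot.IsQuot.pull hρ₂ g V (p'.app V b) = p'.app V b := fun g b => by
      rw [← CommRingCat.comp_apply, SchQuot.IsQuot.pull, Scheme.Hom.app_eq_appLE,
        Scheme.Hom.appLE_comp_appLE]
      simp only [hρ₂ g]
    let σ : G → (Γ(X, p ⁻¹ᵁ U) →ₐ[Γ(Y, U)] Γ(X, p ⁻¹ᵁ U)) := fun g =>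
      { __ := (SchQuot.IsQuot.pull hp.inv g U).hom, commutes' := hcb g }
    let σ' : G → (Γ(X', p' ⁻¹ᵁ V) →ₐ[Γ(Y', V)] Γ(X', p' ⁻¹ᵁ V)) := fun g =>
      { __ := (SchQuot.IsQuot.pull hρ₂ g V).hom, commutes' := hcb' g }
    refine range_of_fixed (B := Γ(Y, U)) (B' := Γ(Y', V)) (A := Γ(X, p ⁻¹ᵁ U))
      (A' := Γ(X', p' ⁻¹ᵁ V)) (hY.isUnit U Fintype.card_pos) (hp.injective U) σ (fun g h a => ?_) σ'
      (fun g a => ?_) (fun a ha => (hp.range_iff U a).mpr ha)
    · exact congr($((SchQuot.IsQuot.pull_mul hp U g h).symm) a)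
    show SchQuot.IsQuot.pull hρ₂ g V (pX.appLE (p ⁻¹ᵁ U) (p' ⁻¹ᵁ V) hXle a) =
      pX.appLE (p ⁻¹ᵁ U) (p' ⁻¹ᵁ V) hXle (SchQuot.IsQuot.pull hp.inv g U a)
    rw [← CommRingCat.comp_apply, ← CommRingCat.comp_apply, SchQuot.IsQuot.pull, SchQuot.IsQuot.pull,
      Scheme.Hom.appLE_comp_appLE, Scheme.Hom.appLE_comp_appLE]
    simp only [hρ₁ g]
  refine SchQuot.Local.isQuot_of_basis
    (B := {V : Y'.Opens | IsAffineOpen V ∧ ∃ U : Y.Opens, IsAffineOpen U ∧ V ≤ qY ⁻¹ᵁ U})
    ?_ hρ₂ (fun V hV => (key V hV.1 hV.2).1) (fun V hV => (key V hV.1 hV.2).2)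
  refine Opens.isBasis_iff_nbhd.mpr fun {O x} hx => ?_
  obtain ⟨_, ⟨U, hU, rfl⟩, hy, -⟩ :=
    Y.isBasis_affineOpens.exists_subset_of_mem_open (Set.mem_univ (qY x)) isOpen_univ
  obtain ⟨_, ⟨V, hV, rfl⟩, hxV, hVO⟩ := Y'.isBasis_affineOpens.exists_subset_of_mem_open
    (show x ∈ (O ⊓ qY ⁻¹ᵁ U : Y'.Opens) from ⟨hx, hy⟩) (O ⊓ qY ⁻¹ᵁ U).isOpen
  exact ⟨V, ⟨hV, U, hU, fun z hz => (hVO hz).2⟩, hxV, fun z hz => (hVO hz).1⟩

/-- A quotient of a quotient. -/
theorem isQuot_comp {X Z T : Scheme.{u}} {G H : Type u} [Group G] [Group H] (ρ : G × H →* Aut X)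
    {ρG : G →* Aut X} (hρG : ∀ g, (ρG g).hom = (ρ (g, 1)).hom) {p : X ⟶ Z}
    (hp : SGA1.IsQuot ρG p) {σ : H →* Aut Z} {r : Z ⟶ T} (hr : SGA1.IsQuot σ r)
    (hcomm : ∀ g h, (ρ (g, h)).hom ≫ p = p ≫ (σ h).hom) : SGA1.IsQuot ρ (p ≫ r) := by
  have := hp.affine
  have := hr.affine
  have hinv : ∀ gh, (ρ gh).hom ≫ p ≫ r = p ≫ r := fun gh => by
    rw [reassoc_of% (hcomm gh.1 gh.2), hr.inv]
  refine ⟨inferInstance, hinv, fun U => ?_, fun U s => ⟨?_, fun hs => ?_⟩⟩
  · exact (hp.injective (r ⁻¹ᵁ U)).comp (hr.injective U)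
  · rintro ⟨b, rfl⟩ g
    rw [← CommRingCat.comp_apply, Scheme.Hom.app_eq_appLE, Scheme.Hom.appLE_comp_appLE]
    simp only [hinv g]
  · obtain ⟨t, rfl⟩ := (hp.range_iff (r ⁻¹ᵁ U) s).mpr fun g => by
      simp only [hρG g]; exact hs (g, 1)
    obtain ⟨b, rfl⟩ := (hr.range_iff U t).mpr fun h => hp.injective _ (by
      have := hs ((1 : G), h)
      have hm : (σ h).hom.appLE _ _ (SGA1.preimage_le_of_inv σ r hr.inv h U) ≫ p.app (r ⁻¹ᵁ U) =
          p.app (r ⁻¹ᵁ U) ≫ (ρ (1, h)).hom.appLE _ _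
            (SGA1.preimage_le_of_inv ρ (p ≫ r) hinv (1, h) U) := by
        rw [Scheme.Hom.app_eq_appLE, Scheme.Hom.appLE_comp_appLE]
        refine Eq.trans ?_ (Scheme.Hom.appLE_comp_appLE _ _ _ _ _ _ _).symm
        simp only [hcomm 1 h]
      exact (congr($hm t)).trans this)
    exact ⟨b, rfl⟩

/-- The product of two quotients. -/
theorem isQuot_prod {X Z P Q Y : Scheme.{u}} (bX : X ⟶ Y) (bZ : Z ⟶ Y) (bP : P ⟶ Y) (bQ : Q ⟶ Y)
    (hY : Inv Y) {G H : Type u} [Group G] [Group H] [Finite G] [Finite H] {ρX : G →* Aut X}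
    {ρZ : H →* Aut Z} {p : X ⟶ P} {q : Z ⟶ Q} (hp : SGA1.IsQuot ρX p) (hq : SGA1.IsQuot ρZ q)
    (ep : p ≫ bP = bX) (eq : q ≫ bQ = bZ) (ρ : G × H →* Aut (pullback bX bZ))
    (h₁ : ∀ gh, (ρ gh).hom ≫ pullback.fst bX bZ = pullback.fst bX bZ ≫ (ρX gh.1).hom)
    (h₂ : ∀ gh, (ρ gh).hom ≫ pullback.snd bX bZ = pullback.snd bX bZ ≫ (ρZ gh.2).hom) :
    SGA1.IsQuot ρ (pullback.map bX bZ bP bQ p q (𝟙 Y) ((Category.comp_id _).trans ep.symm)
      ((Category.comp_id _).trans eq.symm)) := by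
  let p₁ : pullback bX bZ ⟶ pullback bP bZ := pullback.lift (pullback.fst bX bZ ≫ p)
    (pullback.snd bX bZ) (by rw [Category.assoc, ep, pullback.condition])
  let q₁ : pullback bP bZ ⟶ pullback bP bQ := pullback.lift (pullback.fst bP bZ)
    (pullback.snd bP bZ ≫ q) (by rw [Category.assoc, eq, pullback.condition])
  have p₁f : p₁ ≫ pullback.fst bP bZ = pullback.fst bX bZ ≫ p := pullback.lift_fst _ _ _
  have p₁s : p₁ ≫ pullback.snd bP bZ = pullback.snd bX bZ := pullback.lift_snd _ _ _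
  have q₁f : q₁ ≫ pullback.fst bP bQ = pullback.fst bP bZ := pullback.lift_fst _ _ _
  have q₁s : q₁ ≫ pullback.snd bP bQ = pullback.snd bP bZ ≫ q := pullback.lift_snd _ _ _
  have e : pullback.map bX bZ bP bQ p q (𝟙 Y) ((Category.comp_id _).trans ep.symm)
      ((Category.comp_id _).trans eq.symm) = p₁ ≫ q₁ := by
    apply pullback.hom_ext
    · rw [Category.assoc, q₁f, p₁f]; exact pullback.lift_fst _ _ _
    · rw [Category.assoc, q₁s, reassoc_of% p₁s]; exact pullback.lift_snd _ _ _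
  have hp₁ : IsPullback p₁ (pullback.fst bX bZ) (pullback.fst bP bZ) p :=
    IsPullback.of_right (h₁₂ := pullback.snd bP bZ) (h₂₂ := bP) (v₁₃ := bZ)
      (by rw [p₁s, ep]; exact (IsPullback.of_hasPullback bX bZ).flip) p₁f
      (IsPullback.of_hasPullback bP bZ).flip
  have hq₁ : IsPullback q₁ (pullback.snd bP bZ) (pullback.snd bP bQ) q :=
    IsPullback.of_right (h₁₂ := pullback.fst bP bQ) (h₂₂ := bQ) (v₁₃ := bP)
      (by rw [q₁f, eq]; exact IsPullback.of_hasPullback bP bZ) q₁s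
      (IsPullback.of_hasPullback bP bQ)
  have hb : ∀ h, (ρZ h).hom ≫ bZ = bZ := fun h => by rw [← eq, reassoc_of% (hq.inv h)]
  let m : H → (pullback bP bZ ⟶ pullback bP bZ) := fun h =>
    pullback.lift (pullback.fst bP bZ) (pullback.snd bP bZ ≫ (ρZ h).hom)
      (by rw [Category.assoc, hb, pullback.condition])
  have mf : ∀ h, m h ≫ pullback.fst bP bZ = pullback.fst bP bZ := fun h => pullback.lift_fst _ _ _
  have ms : ∀ h, m h ≫ pullback.snd bP bZ = pullback.snd bP bZ ≫ (ρZ h).hom := fun h =>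
    pullback.lift_snd _ _ _
  have hm_one : m 1 = 𝟙 _ := by
    apply pullback.hom_ext
    · rw [mf, Category.id_comp]
    · rw [ms, SchQuot.IsQuot.hom_one, Category.comp_id, Category.id_comp]
  have hm_mul : ∀ g h, m (g * h) = m h ≫ m g := fun g h => by
    apply pullback.hom_ext
    · rw [Category.assoc, mf, mf, mf]
    · rw [Category.assoc, ms, ms, reassoc_of% (ms h), SchQuot.IsQuot.hom_mul_hom]
  let ρH : H →* Aut (pullback bP bZ) :=
    { toFun := fun h => ⟨m h, m h⁻¹, by rw [← hm_mul, inv_mul_cancel, hm_one],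
        by rw [← hm_mul, mul_inv_cancel, hm_one]⟩
      map_one' := Iso.ext hm_one
      map_mul' := fun g h => Iso.ext (hm_mul g h) }
  let ρG : G →* Aut (pullback bX bZ) := ρ.comp (MonoidHom.inl G H)
  have hG : SGA1.IsQuot ρG p₁ := by
    refine isQuot_baseChange hp (Inv.of_hom bP hY) hp₁.flip ρG (fun g => h₁ (g, 1)) fun g => ?_
    show (ρ (g, 1)).hom ≫ p₁ = p₁
    apply pullback.hom_ext
    · rw [Category.assoc, p₁f, reassoc_of% (h₁ (g, 1)), hp.inv]
    · rw [Category.assoc, p₁s]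
      refine (h₂ (g, 1)).trans ?_
      rw [SchQuot.IsQuot.hom_one, Category.comp_id]
  have hH : SGA1.IsQuot ρH q₁ := by
    refine isQuot_baseChange hq (Inv.of_hom bQ hY) hq₁.flip ρH ms fun h => ?_
    show m h ≫ q₁ = q₁
    apply pullback.hom_ext
    · rw [Category.assoc, q₁f, mf]
    · rw [Category.assoc, q₁s, reassoc_of% (ms h), hq.inv]
  rw [e]
  refine isQuot_comp ρ (fun g => rfl) hG hH fun g h => ?_
  show _ = p₁ ≫ m h
  apply pullback.hom_ext
  · rw [Category.assoc, Category.assoc, mf, p₁f, reassoc_of% (h₁ (g, h)), hp.inv]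
  · rw [Category.assoc, Category.assoc, ms, p₁s, reassoc_of% p₁s]
    exact h₂ (g, h)

theorem appLE_res {X Y : Scheme.{u}} (f : X ⟶ Y) {A N : Y.Opens} (hA : A ≤ N)
    (hle : f ⁻¹ᵁ N ≤ f ⁻¹ᵁ A) (z : Γ(Y, N)) :
    f.appLE A (f ⁻¹ᵁ N) hle (Y.presheaf.map (homOfLE hA).op z) = f.app N z := by
  have h : Y.presheaf.map (homOfLE hA).op ≫ f.appLE A (f ⁻¹ᵁ N) hle = f.app N := by
    rw [Scheme.Hom.map_appLE, Scheme.Hom.app_eq_appLE]
  exact congr($h z)

theorem appLE_app {X Z Y : Scheme.{u}} (a : Z ⟶ X) (f : X ⟶ Y) (N : Y.Opens) {W : Z.Opens}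
    (e : W ≤ a ⁻¹ᵁ (f ⁻¹ᵁ N)) (z : Γ(Y, N)) :
    a.appLE (f ⁻¹ᵁ N) W e (f.app N z) = (a ≫ f).appLE N W e z := by
  have h : f.app N ≫ a.appLE (f ⁻¹ᵁ N) W e = (a ≫ f).appLE N W e := by
    rw [Scheme.Hom.app_eq_appLE, Scheme.Hom.appLE_comp_appLE]
  exact congr($h z)

/-- A clopen piece meeting every orbit has the same quotient for its stabilizer. -/
theorem isQuot_induced {O T : Scheme.{u}} (hT : Inv T) {G H : Type u} [Group G] [Group H] [Finite G]
    {ρ : G →* Aut O} {p : O ⟶ T} (hp : SGA1.IsQuot ρ p) (W : O.Opens) (hWc : IsClosed (W : Set O))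
    (φ : H →* G) (hcov : ∀ x : O, ∃ g, (ρ g).hom x ∈ W)
    (hstab : ∀ g, ∀ x ∈ W, (ρ g).hom x ∈ W → g ∈ φ.range)
    (ρW : H →* Aut W.toScheme) (hρW : ∀ h, (ρW h).hom ≫ W.ι = W.ι ≫ (ρ (φ h)).hom) :
    SGA1.IsQuot ρW (W.ι ≫ p) := by
  classical
  cases nonempty_fintype G
  have := hp.affine
  haveI : IsClosedImmersion W.ι :=
    IsClosedImmersion.of_isPreimmersion W.ι (by rw [Scheme.Opens.range_ι]; exact hWc)
  have hinv : ∀ h, (ρW h).hom ≫ W.ι ≫ p = W.ι ≫ p := fun h => by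
    rw [reassoc_of% (hρW h), hp.inv]
  refine ⟨inferInstance, hinv, fun U => ?_, fun U t => ⟨?_, fun ht => ?_⟩⟩
  · rw [injective_iff_map_eq_zero]
    intro b hb
    refine (map_eq_zero_iff _ (hp.injective U)).mp ?_
    refine TopCat.Presheaf.section_ext O.sheaf _ _ 0 fun x hx => ?_
    obtain ⟨g, hg⟩ := hcov x
    have hgx : (ρ g).hom x ∈ p ⁻¹ᵁ U := by
      show p _ ∈ U
      rwa [SchQuot.IsQuot.apply_hom hp g x]
    have h0 : O.presheaf.germ (p ⁻¹ᵁ U) ((ρ g).hom x) hgx (p.app U b) = 0 := by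
      let y : W.toScheme := ⟨(ρ g).hom x, hg⟩
      refine (ConcreteCategory.bijective_of_isIso (W.ι.stalkMap y)).1 ?_
      refine ((Scheme.Hom.germ_stalkMap_apply W.ι (p ⁻¹ᵁ U) y hgx _).trans ?_).trans (map_zero _).symm
      refine (congrArg _ hb).trans (map_zero _)
    have h1 := congrArg ((ρ g).hom.stalkMap x).hom h0
    rw [map_zero] at h1
    refine Eq.trans ?_ (h1.trans (map_zero _).symm)
    refine Eq.trans ?_ (Scheme.Hom.germ_stalkMap_apply (ρ g).hom (p ⁻¹ᵁ U) x hgx _).symm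
    have h2 := (hp.range_iff U (p.app U b)).mp ⟨b, rfl⟩ g
    refine Eq.trans (congrArg _ h2.symm) ?_
    simp only [Scheme.Hom.appLE, CommRingCat.comp_apply]
    exact TopCat.Presheaf.germ_res_apply _ _ _ _ _
  · rintro ⟨b, rfl⟩ h
    rw [← CommRingCat.comp_apply, Scheme.Hom.app_eq_appLE, Scheme.Hom.appLE_comp_appLE]
    simp only [hinv h]
  · let N := p ⁻¹ᵁ U
    let W' : O.Opens := ⟨(W : Set O)ᶜ, hWc.isOpen_compl⟩
    -- the extension by zero
    obtain ⟨a, ha⟩ := (SchQuot.Transport.ι_appLE_bijective W (W ⊓ N) (W.ι ⁻¹ᵁ N)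
      (fun y hy => ⟨y.2, hy⟩) (by
        rw [Scheme.Hom.image_preimage_eq_opensRange_inf, Scheme.Opens.opensRange_ι])).2 t
    let V : ULift.{u} Bool → O.Opens := fun b => if b.down then W ⊓ N else W' ⊓ N
    let sf : ∀ i, Γ(O, V i) := fun b => match b with
      | ⟨true⟩ => a
      | ⟨false⟩ => 0
    obtain ⟨z, hz, -⟩ := O.sheaf.existsUnique_gluing' V N
      (fun i => homOfLE (by obtain ⟨i⟩ := i; cases i <;> exact inf_le_right))
      (fun x hx => by
        by_cases hxW : x ∈ W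
        · exact Opens.mem_iSup.2 ⟨⟨true⟩, hxW, hx⟩
        · exact Opens.mem_iSup.2 ⟨⟨false⟩, hxW, hx⟩) sf (fun i j => by
        by_cases hij : i = j
        · subst hij; rfl
        · have hb : V i ⊓ V j = ⊥ := by
            obtain ⟨i⟩ := i; obtain ⟨j⟩ := j
            refine le_bot_iff.mp fun x hx => ?_
            cases i <;> cases j
            · exact absurd rfl hij
            · exact hx.1.1 hx.2.1
            · exact hx.2.1 hx.1.1
            · exact absurd rfl hij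
          have hs : Subsingleton Γ(O, V i ⊓ V j) := by rw [hb]; infer_instance
          exact @Subsingleton.elim _ hs _ _)
    let z' : Γ(O, N) := z
    have hzW : W.ι.app N z' = t := by
      rw [← ha, ← show O.presheaf.map (homOfLE (inf_le_right : W ⊓ N ≤ N)).op z' = a from hz ⟨true⟩]
      exact (appLE_res W.ι inf_le_right _ z').symm
    let s : Γ(O, N) := ∑ g, SchQuot.IsQuot.pull hp.inv g U z'
    obtain ⟨b, hb⟩ := (hp.range_iff U s).mpr fun g => by
      show SchQuot.IsQuot.pull hp.inv g U s = s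
      simp only [s, map_sum, ← CommRingCat.comp_apply, ← SchQuot.IsQuot.pull_mul hp]
      exact Equiv.sum_comp (Equiv.mulRight g) fun g' => SchQuot.IsQuot.pull hp.inv g' U z'
    have hterm : ∀ g, W.ι.app N (SchQuot.IsQuot.pull hp.inv g U z') =
        if g ∈ φ.range then t else 0 := fun g => by
      rw [← CommRingCat.comp_apply, SchQuot.IsQuot.pull, Scheme.Hom.app_eq_appLE,
        Scheme.Hom.appLE_comp_appLE]
      split_ifs with hg
      · obtain ⟨h, rfl⟩ := hg
        refine Eq.trans ?_ (ht h)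
        rw [← hzW]
        refine Eq.trans ?_ (appLE_app (ρW h).hom W.ι N _ z').symm
        simp only [hρW h]
        rfl
      · have hr : Set.range (W.ι ≫ (ρ g).hom) ⊆ Set.range W'.ι := by
          rintro _ ⟨y, rfl⟩
          rw [Scheme.Opens.range_ι]
          exact fun hy => hg (hstab g _ y.2 hy)
        have hl := IsOpenImmersion.lift_fac W'.ι (W.ι ≫ (ρ g).hom) hr
        have h0 : W'.ι.app N z' = 0 := by
          have hle' : W'.ι ⁻¹ᵁ N ≤ W'.ι ⁻¹ᵁ (W' ⊓ N) := fun y hy => ⟨y.2, hy⟩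
          rw [← appLE_res W'.ι (inf_le_right : W' ⊓ N ≤ N) hle' z',
            show O.presheaf.map (homOfLE inf_le_right).op z' = (0 : Γ(O, W' ⊓ N)) from hz ⟨false⟩,
            map_zero]
        have hle : W.ι ⁻¹ᵁ N ≤ IsOpenImmersion.lift W'.ι (W.ι ≫ (ρ g).hom) hr ⁻¹ᵁ W'.ι ⁻¹ᵁ N := by
          intro y hy
          show W'.ι (IsOpenImmersion.lift W'.ι (W.ι ≫ (ρ g).hom) hr y) ∈ N
          rw [← Scheme.Hom.comp_apply, hl]
          show p ((ρ g).hom (W.ι y)) ∈ U
          rw [SchQuot.IsQuot.apply_hom hp]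
          exact hy
        have := congrArg ((IsOpenImmersion.lift W'.ι (W.ι ≫ (ρ g).hom) hr).appLE _ _ hle).hom h0
        rw [map_zero, ← CommRingCat.comp_apply, Scheme.Hom.app_eq_appLE,
          Scheme.Hom.appLE_comp_appLE] at this
        simp only [hl] at this
        exact this
    let c : ℕ := (Finset.univ.filter fun g => g ∈ φ.range).card
    have hc : 0 < c := Finset.card_pos.mpr ⟨1, Finset.mem_filter.mpr ⟨Finset.mem_univ _, one_mem _⟩⟩
    obtain ⟨u, hu⟩ := (hT.isUnit U hc).exists_left_inv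
    let t' : Γ(W.toScheme, W.ι ⁻¹ᵁ N) := t
    have key : W.ι.app N (p.app U (u * b)) = t' := by
      have hb' : W.ι.app N (p.app U b) = ((c : ℕ) : Γ(W.toScheme, W.ι ⁻¹ᵁ N)) * t' := by
        rw [show p.app U b = s from hb]
        simp only [s, map_sum]
        rw [Finset.sum_congr rfl (g := fun g => if g ∈ φ.range then t' else 0) fun g _ => hterm g,
          Finset.sum_ite, Finset.sum_const_zero, add_zero, Finset.sum_const, nsmul_eq_mul]
      rw [map_mul, map_mul, hb', ← mul_assoc,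
        show ((c : ℕ) : Γ(W.toScheme, W.ι ⁻¹ᵁ N)) = W.ι.app N (p.app U ((c : ℕ) : Γ(T, U))) by
          rw [map_natCast, map_natCast],
        ← map_mul, ← map_mul, hu, map_one, map_one, one_mul]
    exact ⟨u * b, key⟩

end Groth.Agent.Lib.SymSplit.Quot
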