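import Groth.Prelude
import Groth.Agent.Lib.SymSplit.Quot
import Groth.Agent.Lib.SchQuot.Restrict
import Mathlib.GroupTheory.Perm.Finite

/-!
The decomposition of the fibre powers of `X ⊔ X'` by the number of factors in `X`.
-/

set_option autoImplicit false
universe u

open CategoryTheory CategoryTheory.Limits AlgebraicGeometry TopologicalSpace

noncomputable section

namespace Groth.Agent.Lib.SymSplit.Count

variable {X X' Y : Scheme.{u}} (f : X ⟶ Y) (f' : X' ⟶ Y) (n : ℕ)

/-- The `i`-th projection. -/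
abbrev pr (i : Fin n) : SymProd.fibPow (coprod.desc f f') n ⟶ X ⨿ X' := WidePullback.π _ i

/-- The `i`-th component lies in `X`. -/
def IsL (x : SymProd.fibPow (coprod.desc f f') n) (i : Fin n) : Prop :=
  pr f f' n i x ∈ (coprod.inl : X ⟶ X ⨿ X').opensRange

theorem isOpen_pattern (x : SymProd.fibPow (coprod.desc f f') n) :
    IsOpen {y | ∀ i, IsL f f' n y i ↔ IsL f f' n x i} := by
  rw [show {y | ∀ i, IsL f f' n y i ↔ IsL f f' n x i} = ⋂ i, {y | IsL f f' n y i ↔ IsL f f' n x i} from
    Set.ext fun y => by simp only [Set.mem_setOf_eq, Set.mem_iInter]]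
  refine isOpen_iInter_of_finite fun i => ?_
  have hc : IsClopen ((coprod.inl : X ⟶ X ⨿ X').opensRange : Set ↥(X ⨿ X')) :=
    ⟨⟨by
      rw [Scheme.Hom.coe_opensRange, (isCompl_range_inl_inr X X').compl_eq]
      exact (coprod.inr : X' ⟶ X ⨿ X').isOpenEmbedding.isOpen_range⟩,
      (coprod.inl : X ⟶ X ⨿ X').opensRange.isOpen⟩
  by_cases h : IsL f f' n x i
  · simp only [h, iff_true]
    exact hc.isOpen.preimage (pr f f' n i).continuous
  · simp only [h, iff_false]
    exact hc.compl.isOpen.preimage (pr f f' n i).continuous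

open Classical in
/-- The number of components in `X`. -/
def cnt (x : SymProd.fibPow (coprod.desc f f') n) : ℕ :=
  (Finset.univ.filter fun i => IsL f f' n x i).card

theorem cnt_le (x : SymProd.fibPow (coprod.desc f f') n) : cnt f f' n x ≤ n := by
  classical
  exact (Finset.card_filter_le _ _).trans (by simp)

theorem isOpen_cnt (P : ℕ → Prop) : IsOpen {x | P (cnt f f' n x)} := by
  classical
  refine isOpen_iff_forall_mem_open.mpr fun x hx => ⟨_, fun y hy => ?_, isOpen_pattern f f' n x,
    fun _ => Iff.rfl⟩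
  show P (cnt f f' n y)
  have : cnt f f' n y = cnt f f' n x := congrArg Finset.card (Finset.filter_congr fun i _ => hy i)
  rwa [this]

/-- The points with exactly `a` components in `X`, the first `a`. -/
def front (a : ℕ) : (SymProd.fibPow (coprod.desc f f') n).Opens where
  carrier := {x | ∀ i : Fin n, IsL f f' n x i ↔ i.val < a}
  is_open' := isOpen_iff_forall_mem_open.mpr fun x hx =>
    ⟨_, fun _ hy i => (hy i).trans (hx i), isOpen_pattern f f' n x, fun _ => Iff.rfl⟩

theorem isClosed_front (a : ℕ) :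
    IsClosed (front f f' n a : Set ↥(SymProd.fibPow (coprod.desc f f') n)) :=
  ⟨isOpen_iff_forall_mem_open.mpr fun x hx =>
    ⟨_, fun _ hy h => hx fun i => (hy i).symm.trans (h i), isOpen_pattern f f' n x, fun _ => Iff.rfl⟩⟩

theorem isL_perm (σ : Equiv.Perm (Fin n)) (x : SymProd.fibPow (coprod.desc f f') n) (i : Fin n) :
    IsL f f' n (SymProd.permHom _ n σ x) i ↔ IsL f f' n x (σ.symm i) := by
  rw [IsL, IsL, pr, pr, ← Scheme.Hom.comp_apply, SymProd.permHom_π]

theorem cnt_perm (σ : Equiv.Perm (Fin n)) (x : SymProd.fibPow (coprod.desc f f') n) :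
    cnt f f' n (SymProd.permHom _ n σ x) = cnt f f' n x := by
  classical
  refine Finset.card_bij (fun i _ => σ.symm i) (fun i hi => ?_) (fun i _ j _ h => σ.symm.injective h)
    fun j hj => ⟨σ j, ?_, σ.symm_apply_apply j⟩
  · simp only [Finset.mem_filter, Finset.mem_univ, true_and] at hi ⊢
    exact (isL_perm f f' n σ x i).mp hi
  · simp only [Finset.mem_filter, Finset.mem_univ, true_and] at hj ⊢
    exact (isL_perm f f' n σ x (σ j)).mpr (by rwa [σ.symm_apply_apply])

theorem cnt_of_mem_front {a : ℕ} (ha : a ≤ n) {x : SymProd.fibPow (coprod.desc f f') n}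
    (hx : x ∈ front f f' n a) : cnt f f' n x = a := by
  classical
  rw [cnt, Finset.filter_congr fun i _ => hx i, Fin.card_filter_val_lt, min_eq_right ha]

theorem exists_perm_mem_front {a : ℕ} (x : SymProd.fibPow (coprod.desc f f') n)
    (hx : cnt f f' n x = a) : ∃ σ : Equiv.Perm (Fin n), SymProd.permHom _ n σ x ∈ front f f' n a := by
  classical
  have ha : a ≤ n := hx ▸ cnt_le f f' n x
  have hcard : Fintype.card {i : Fin n // i.val < a} = Fintype.card {i // IsL f f' n x i} := by
    rw [Fintype.card_subtype, Fintype.card_subtype, Fin.card_filter_val_lt, min_eq_right ha]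
    exact hx.symm
  let e := Fintype.equivOfCardEq hcard
  refine ⟨e.extendSubtype.symm, fun i => ?_⟩
  rw [isL_perm, Equiv.symm_symm]
  exact ⟨fun h => by_contra fun hi => e.extendSubtype_not_mem i hi h, e.extendSubtype_mem i⟩

/-- The block embedding of `S_a × S_b` in `S_{a+b}`. -/
def block (a b : ℕ) :
    Equiv.Perm (Fin a) × Equiv.Perm (Fin b) →* Equiv.Perm (Fin (a + b)) :=
  (finSumFinEquiv.permCongrHom).toMonoidHom.comp (Equiv.Perm.sumCongrHom (Fin a) (Fin b))

theorem block_symm_castAdd {a b : ℕ} (p : Equiv.Perm (Fin a) × Equiv.Perm (Fin b)) (i : Fin a) :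
    (block a b p).symm (Fin.castAdd b i) = Fin.castAdd b (p.1.symm i) := by
  apply (block a b p).injective
  rw [Equiv.apply_symm_apply]
  simp [block, Equiv.permCongrHom, Equiv.Perm.sumCongrHom]

theorem block_symm_natAdd {a b : ℕ} (p : Equiv.Perm (Fin a) × Equiv.Perm (Fin b)) (i : Fin b) :
    (block a b p).symm (Fin.natAdd a i) = Fin.natAdd a (p.2.symm i) := by
  apply (block a b p).injective
  rw [Equiv.apply_symm_apply]
  simp [block, Equiv.permCongrHom, Equiv.Perm.sumCongrHom]

theorem mem_range_block {a b : ℕ} (σ : Equiv.Perm (Fin (a + b)))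
    (h : ∀ i : Fin (a + b), i.val < a → (σ i).val < a) : σ ∈ (block a b).range := by
  let τ : Equiv.Perm (Fin a ⊕ Fin b) := finSumFinEquiv.symm.permCongr σ
  obtain ⟨p, hp⟩ : τ ∈ (Equiv.Perm.sumCongrHom (Fin a) (Fin b)).range := by
    refine Equiv.Perm.mem_sumCongrHom_range_of_perm_mapsTo_inl fun x hx => ?_
    obtain ⟨i, rfl⟩ := hx
    have hlt : (σ (Fin.castAdd b i)).val < a := h _ i.isLt
    refine ⟨⟨_, hlt⟩, ?_⟩
    apply finSumFinEquiv.injective
    simp [τ, Equiv.permCongr_apply]
  refine ⟨p, ?_⟩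
  show finSumFinEquiv.permCongr (Equiv.Perm.sumCongrHom (Fin a) (Fin b) p) = σ
  rw [hp]
  ext i
  simp [τ, Equiv.permCongr_apply]

/-- A permutation of a point of `front` in `front` is in the block subgroup. -/
theorem mem_range_block_of_front {a b : ℕ} (σ : Equiv.Perm (Fin (a + b)))
    {x : SymProd.fibPow (coprod.desc f f') (a + b)} (hx : x ∈ front f f' (a + b) a)
    (hσx : SymProd.permHom _ (a + b) σ x ∈ front f f' (a + b) a) : σ ∈ (block a b).range := by
  refine mem_range_block σ fun i hi => ?_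
  refine (hσx (σ i)).mp ((isL_perm f f' _ σ x (σ i)).mpr ?_)
  rw [σ.symm_apply_apply]
  exact (hx i).mpr hi

end Groth.Agent.Lib.SymSplit.Count
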