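import Groth.Prelude
import Groth.Agent.Lib.SymSplit.Count

/-!
The piece with `a` components in `X` of a symmetric power of `X ⊔ X'`.
-/

set_option autoImplicit false
universe u

open CategoryTheory CategoryTheory.Limits AlgebraicGeometry TopologicalSpace

noncomputable section

namespace Groth.Agent.Lib.SymSplit.Piece

open Groth.Agent.Lib Count

variable {X X' Y : Scheme.{u}} (f : X ⟶ Y) (f' : X' ⟶ Y)

/-- Two quotients by the same action are isomorphic. -/
theorem exists_iso_of_isQuot {W A B : Scheme.{u}} {G : Type u} [Group G] [Finite G] {ρ : G →* Aut W}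
    {p : W ⟶ A} {q : W ⟶ B} (hp : SGA1.IsQuot ρ p) (hq : SGA1.IsQuot ρ q) (gA : A ⟶ Y) (gB : B ⟶ Y)
    (hg : p ≫ gA = q ≫ gB) : ∃ e : A ≅ B, e.hom ≫ gB = gA := by
  obtain ⟨u, hu, -⟩ := SchQuot.IsQuot.existsUnique_desc hp q hq.inv
  obtain ⟨v, hv, -⟩ := SchQuot.IsQuot.existsUnique_desc hq p hp.inv
  have key : ∀ {C D : Scheme.{u}} {r : W ⟶ C} (_ : SGA1.IsQuot ρ r) (x y : C ⟶ D),
      r ≫ x = r ≫ y → x = y := fun hr x y h =>
    (SchQuot.IsQuot.existsUnique_desc hr (_ ≫ y) fun g => by rw [reassoc_of% (hr.inv g)]).unique h rfl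
  refine ⟨⟨u, v, ?_, ?_⟩, ?_⟩
  · exact key hp _ _ (by rw [reassoc_of% hu, hv, Category.comp_id])
  · exact key hq _ _ (by rw [reassoc_of% hv, hu, Category.comp_id])
  · exact key hp _ _ (by rw [reassoc_of% hu, hg])

variable {n : ℕ} {T : Scheme.{u}} {Q : SymProd.fibPow (coprod.desc f f') n ⟶ T} {h : T ⟶ Y}

/-- The points of `T` with `a` components in `X`. -/
def piece (hT : SymProd.IsSymProd (coprod.desc f f') n Q h) (a : ℕ) : T.Opens where
  carrier := Q '' {x | cnt f f' n x = a}
  is_open' := by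
    rw [← (SchQuot.IsQuot.isQuotientMap hT.isQuot).isOpen_preimage,
      show Q ⁻¹' (Q '' {x | cnt f f' n x = a}) = {x | cnt f f' n x = a} from Set.ext fun x =>
        ⟨fun ⟨y, hy, e⟩ => by
          obtain ⟨g, rfl⟩ := (SchQuot.IsQuot.apply_eq_iff hT.isQuot y x).mp e
          show cnt f f' n _ = a
          rw [SymProd.permActU_hom, cnt_perm]
          exact hy, fun hx => ⟨x, hx, rfl⟩⟩]
    exact isOpen_cnt f f' n (· = a)

variable (hT : SymProd.IsSymProd (coprod.desc f f') n Q h)

theorem mem_piece (a : ℕ) (x : SymProd.fibPow (coprod.desc f f') n) :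
    Q x ∈ piece f f' hT a ↔ cnt f f' n x = a :=
  ⟨fun ⟨y, hy, e⟩ => by
    obtain ⟨g, rfl⟩ := (SchQuot.IsQuot.apply_eq_iff hT.isQuot y x).mp e
    rw [SymProd.permActU_hom, cnt_perm]
    exact hy, fun hx => ⟨x, hx, rfl⟩⟩

theorem piece_cover (t : T) : ∃ a ≤ n, t ∈ piece f f' hT a := by
  obtain ⟨x, rfl⟩ := SchQuot.IsQuot.surjective hT.isQuot t
  exact ⟨_, cnt_le f f' n x, (mem_piece f f' hT _ x).mpr rfl⟩

theorem piece_disjoint {a b : ℕ} (hab : a ≠ b) (t : T) (ha : t ∈ piece f f' hT a)
    (hb : t ∈ piece f f' hT b) : False := by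
  obtain ⟨x, rfl⟩ := SchQuot.IsQuot.surjective hT.isQuot t
  exact hab (((mem_piece f f' hT a x).mp ha).symm.trans ((mem_piece f f' hT b x).mp hb))

theorem isClosed_piece (a : ℕ) : IsClosed (piece f f' hT a : Set T) := by
  refine ⟨isOpen_iff_forall_mem_open.mpr fun t ht => ?_⟩
  obtain ⟨b, -, hb⟩ := piece_cover f f' hT t
  exact ⟨piece f f' hT b, fun y hy hy' => piece_disjoint f f' hT (fun e => by subst e; exact ht hb) y hy hy',
    (piece f f' hT b).isOpen, hb⟩

/-- The piece with `a` components in `X` is the product of the symmetric powers. -/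
theorem exists_iso {a b : ℕ} {T : Scheme.{u}} {Q : SymProd.fibPow (coprod.desc f f') (a + b) ⟶ T}
    {h : T ⟶ Y} (hT : SymProd.IsSymProd (coprod.desc f f') (a + b) Q h) (hY : Quot.Inv Y)
    {A B : Scheme.{u}} {p : SymProd.fibPow f a ⟶ A} {gA : A ⟶ Y} (hA : SymProd.IsSymProd f a p gA)
    {q : SymProd.fibPow f' b ⟶ B} {gB : B ⟶ Y} (hB : SymProd.IsSymProd f' b q gB) :
    ∃ e : (piece f f' hT a).toScheme ≅ pullback gA gB,
      e.hom ≫ pullback.fst gA gB ≫ gA = (piece f f' hT a).ι ≫ h := by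
  let P := SymProd.fibPow (coprod.desc f f') (a + b)
  let V := piece f f' hT a
  let O : P.Opens := Q ⁻¹ᵁ V
  let ρO := SchQuot.Restrict.restrictAct (SymProd.permActU _ (a + b)) O
    fun g => SGA1.preimage_le_of_inv _ Q hT.isQuot.inv g V
  have hO : SGA1.IsQuot ρO (Q ∣_ V) := SchQuot.Restrict.isQuot hT.isQuot V
  have hρO : ∀ g, (ρO g).hom ≫ O.ι = O.ι ≫ SymProd.permHom _ _ g.down := fun g =>
    SchQuot.Restrict.restrictAct_ι _ _ _ g
  let W : O.toScheme.Opens := O.ι ⁻¹ᵁ front f f' (a + b) a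
  have hWc : IsClosed (W : Set O.toScheme) := (isClosed_front f f' (a + b) a).preimage O.ι.continuous
  let j : W.toScheme ⟶ P := W.ι ≫ O.ι
  have hj : ∀ y, j y ∈ front f f' (a + b) a := fun y => y.2
  have hrange : ∀ x ∈ front f f' (a + b) a, x ∈ Set.range j := fun x hx =>
    ⟨⟨⟨x, (mem_piece f f' hT a x).mpr (cnt_of_mem_front f f' _ (Nat.le_add_right a b) hx)⟩, hx⟩, rfl⟩
  let bA : SymProd.fibPow f a ⟶ Y := WidePullback.base _
  let bB : SymProd.fibPow f' b ⟶ Y := WidePullback.base _
  let bP : P ⟶ Y := WidePullback.base _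
  -- from the piece to the product
  have hl : ∀ i : Fin a, Set.range (j ≫ pr f f' _ (Fin.castAdd b i)) ⊆
      Set.range (coprod.inl : X ⟶ X ⨿ X') := fun i => by
    rintro _ ⟨y, rfl⟩
    exact (hj y (Fin.castAdd b i)).mpr i.isLt
  have hr : ∀ i : Fin b, Set.range (j ≫ pr f f' _ (Fin.natAdd a i)) ⊆
      Set.range (coprod.inr : X' ⟶ X ⨿ X') := fun i => by
    rintro _ ⟨y, rfl⟩
    have : ¬ IsL f f' (a + b) (j y) (Fin.natAdd a i) := fun h' => by
      have := (hj y (Fin.natAdd a i)).mp h'
      simp at this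
    rw [← (isCompl_range_inl_inr X X').compl_eq]
    exact this
  let wl : W.toScheme ⟶ SymProd.fibPow f a := WidePullback.lift (j ≫ bP)
    (fun i => IsOpenImmersion.lift coprod.inl _ (hl i)) fun i => by
      refine Eq.trans (congrArg (_ ≫ ·) (coprod.inl_desc f f').symm) ?_
      rw [← Category.assoc, IsOpenImmersion.lift_fac, Category.assoc, WidePullback.π_arrow]
  let wr : W.toScheme ⟶ SymProd.fibPow f' b := WidePullback.lift (j ≫ bP)
    (fun i => IsOpenImmersion.lift coprod.inr _ (hr i)) fun i => by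
      refine Eq.trans (congrArg (_ ≫ ·) (coprod.inr_desc f f').symm) ?_
      rw [← Category.assoc, IsOpenImmersion.lift_fac, Category.assoc, WidePullback.π_arrow]
  let w : W.toScheme ⟶ pullback bA bB := pullback.lift wl wr
    (by simp [wl, wr, bA, bB, WidePullback.lift_base])
  -- and back
  let v : pullback bA bB ⟶ P := WidePullback.lift (pullback.fst bA bB ≫ bA)
    (Fin.addCases (fun i => pullback.fst bA bB ≫ WidePullback.π _ i ≫ coprod.inl)
      (fun i => pullback.snd bA bB ≫ WidePullback.π _ i ≫ coprod.inr))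
    (fun i => by
      refine Fin.addCases (fun i => ?_) (fun i => ?_) i
      · simp only [Fin.addCases_left, Category.assoc, coprod.inl_desc]
        exact congrArg (pullback.fst bA bB ≫ ·) (WidePullback.π_arrow (fun _ : Fin a => f) i)
      · simp only [Fin.addCases_right, Category.assoc, coprod.inr_desc]
        exact (congrArg (pullback.snd bA bB ≫ ·) (WidePullback.π_arrow (fun _ : Fin b => f') i)).trans
          pullback.condition.symm)
  have hvl : ∀ i : Fin a, v ≫ pr f f' _ (Fin.castAdd b i) =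
      pullback.fst bA bB ≫ WidePullback.π _ i ≫ coprod.inl := fun i => by
    refine (WidePullback.lift_π _ _ _ _ _).trans ?_
    rw [Fin.addCases_left]
  have hvr : ∀ i : Fin b, v ≫ pr f f' _ (Fin.natAdd a i) =
      pullback.snd bA bB ≫ WidePullback.π _ i ≫ coprod.inr := fun i => by
    refine (WidePullback.lift_π _ _ _ _ _).trans ?_
    rw [Fin.addCases_right]
  have hvb : v ≫ bP = pullback.fst bA bB ≫ bA := WidePullback.lift_base _ _ _ _
  have hv : Set.range v ⊆ Set.range j := by
    rintro _ ⟨y, rfl⟩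
    refine hrange _ fun i => ?_
    refine Fin.addCases (fun i => ?_) (fun i => ?_) i
    · simp only [Fin.val_castAdd, i.isLt, iff_true, IsL, ← Scheme.Hom.comp_apply, hvl]
      exact ⟨_, rfl⟩
    · simp only [Fin.val_natAdd, IsL, ← Scheme.Hom.comp_apply, hvr]
      refine iff_of_false ?_ (by omega)
      rintro ⟨z, hz⟩
      exact inl_ne_inr _ _ _ _ (hz.trans (Scheme.Hom.comp_apply _ _ _))
  let v' : pullback bA bB ⟶ W.toScheme := IsOpenImmersion.lift j v hv
  have hv' : v' ≫ j = v := IsOpenImmersion.lift_fac _ _ _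
  have hwl : ∀ i, w ≫ pullback.fst bA bB ≫ WidePullback.π _ i ≫ coprod.inl =
      j ≫ pr f f' _ (Fin.castAdd b i) := fun i => by
    rw [pullback.lift_fst_assoc, WidePullback.lift_π_assoc, IsOpenImmersion.lift_fac]
  have hwr : ∀ i, w ≫ pullback.snd bA bB ≫ WidePullback.π _ i ≫ coprod.inr =
      j ≫ pr f f' _ (Fin.natAdd a i) := fun i => by
    rw [pullback.lift_snd_assoc, WidePullback.lift_π_assoc, IsOpenImmersion.lift_fac]
  have hwb : w ≫ pullback.fst bA bB ≫ bA = j ≫ bP := by
    rw [pullback.lift_fst_assoc]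
    exact WidePullback.lift_base _ _ _ _
  let e₀ : W.toScheme ≅ pullback bA bB :=
    { hom := w
      inv := v'
      hom_inv_id := by
        rw [← cancel_mono j, Category.assoc, hv', Category.id_comp]
        refine WidePullback.hom_ext _ _ _ (fun i => ?_) ?_
        · refine Fin.addCases (fun i => ?_) (fun i => ?_) i
          · rw [Category.assoc, hvl, hwl]
          · rw [Category.assoc, hvr, hwr]
        · rw [Category.assoc, hvb, hwb]
      inv_hom_id := by
        apply pullback.hom_ext <;> refine WidePullback.hom_ext _ _ _ (fun i => ?_) ?_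
        · rw [← cancel_mono (coprod.inl : X ⟶ X ⨿ X')]
          simp only [Category.assoc, Category.id_comp]
          rw [hwl, reassoc_of% hv', hvl]
        · simp only [Category.assoc, Category.id_comp]
          rw [hwb, reassoc_of% hv', hvb]
        · rw [← cancel_mono (coprod.inr : X' ⟶ X ⨿ X')]
          simp only [Category.assoc, Category.id_comp]
          rw [hwr, reassoc_of% hv', hvr]
        · simp only [Category.assoc, Category.id_comp]
          rw [show pullback.snd bA bB ≫ WidePullback.base _ = pullback.fst bA bB ≫ bA from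
            pullback.condition.symm, hwb, reassoc_of% hv', hvb] }
  -- the actions
  let G₂ := ULift.{u} (Equiv.Perm (Fin a)) × ULift.{u} (Equiv.Perm (Fin b))
  let φ : G₂ →* ULift.{u} (Equiv.Perm (Fin (a + b))) :=
    MulEquiv.ulift.symm.toMonoidHom.comp ((block a b).comp
      (MulEquiv.ulift.toMonoidHom.prodMap MulEquiv.ulift.toMonoidHom))
  have hφ : ∀ g : G₂, (φ g).down = block a b (g.1.down, g.2.down) := fun _ => rfl
  have hc : ∀ g : G₂, (pullback.fst bA bB ≫ SymProd.permHom f a g.1.down) ≫ bA =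
      (pullback.snd bA bB ≫ SymProd.permHom f' b g.2.down) ≫ bB := fun g => by
    simp [bA, bB, pullback.condition]
  let m : G₂ → (pullback bA bB ⟶ pullback bA bB) := fun g => pullback.lift _ _ (hc g)
  have mf : ∀ g, m g ≫ pullback.fst bA bB = pullback.fst bA bB ≫ SymProd.permHom f a g.1.down :=
    fun g => pullback.lift_fst _ _ _
  have ms : ∀ g, m g ≫ pullback.snd bA bB = pullback.snd bA bB ≫ SymProd.permHom f' b g.2.down :=
    fun g => pullback.lift_snd _ _ _
  have m1 : m 1 = 𝟙 _ := by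
    apply pullback.hom_ext
    · rw [mf, Category.id_comp]
      exact (congrArg (pullback.fst bA bB ≫ ·) (SymProd.permHom_one f a)).trans (Category.comp_id _)
    · rw [ms, Category.id_comp]
      exact (congrArg (pullback.snd bA bB ≫ ·) (SymProd.permHom_one f' b)).trans (Category.comp_id _)
  have mm : ∀ g g', m (g * g') = m g' ≫ m g := fun g g' => by
    apply pullback.hom_ext
    · rw [Category.assoc, mf, mf, reassoc_of% (mf g')]
      exact congrArg (pullback.fst bA bB ≫ ·) (SymProd.permHom_mul f a g.1.down g'.1.down)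
    · rw [Category.assoc, ms, ms, reassoc_of% (ms g')]
      exact congrArg (pullback.snd bA bB ≫ ·) (SymProd.permHom_mul f' b g.2.down g'.2.down)
  let ρ₂ : G₂ →* Aut (pullback bA bB) :=
    { toFun := fun g => ⟨m g, m g⁻¹, by rw [← mm, inv_mul_cancel, m1],
        by rw [← mm, mul_inv_cancel, m1]⟩
      map_one' := Iso.ext m1
      map_mul' := fun g h => Iso.ext (mm g h) }
  let ρW : G₂ →* Aut W.toScheme :=
    { toFun := fun g => e₀ ≪≫ ρ₂ g ≪≫ e₀.symm
      map_one' := Iso.ext (show e₀.hom ≫ m 1 ≫ e₀.inv = 𝟙 _ by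
        rw [m1, Category.id_comp, e₀.hom_inv_id])
      map_mul' := fun g h => Iso.ext (show e₀.hom ≫ m (g * h) ≫ e₀.inv =
        (e₀.hom ≫ m h ≫ e₀.inv) ≫ e₀.hom ≫ m g ≫ e₀.inv by
        simp only [mm, Category.assoc, e₀.inv_hom_id_assoc]) }
  have hcomm : ∀ g, m g ≫ v = v ≫ SymProd.permHom _ _ (φ g).down := fun g => by
    refine WidePullback.hom_ext _ _ _ (fun i => ?_) ?_
    · refine Fin.addCases (fun i => ?_) (fun i => ?_) i
      · rw [Category.assoc, hvl, reassoc_of% (mf g), SymProd.permHom_π_assoc, Category.assoc,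
          SymProd.permHom_π, hφ, block_symm_castAdd, hvl]
      · rw [Category.assoc, hvr, reassoc_of% (ms g), SymProd.permHom_π_assoc, Category.assoc,
          SymProd.permHom_π, hφ, block_symm_natAdd, hvr]
    · rw [Category.assoc, hvb, reassoc_of% (mf g), Category.assoc]
      simp only [bA, SymProd.permHom_base]
      exact hvb.symm
  have hρW : ∀ g, (ρW g).hom ≫ W.ι = W.ι ≫ (ρO (φ g)).hom := fun g => by
    have he : e₀.inv ≫ j = v := hv'
    rw [← cancel_mono O.ι, Category.assoc, Category.assoc, hρO]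
    show (e₀.hom ≫ m g ≫ e₀.inv) ≫ j = W.ι ≫ O.ι ≫ SymProd.permHom _ _ (φ g).down
    rw [Category.assoc, Category.assoc, he, hcomm g, ← he, Category.assoc, e₀.hom_inv_id_assoc]
    exact (Category.assoc _ _ _)
  have hW : SGA1.IsQuot ρW (W.ι ≫ Q ∣_ V) := by
    refine Quot.isQuot_induced (Quot.Inv.of_hom (V.ι ≫ h) hY) hO W hWc φ (fun x => ?_)
      (fun g x hx hgx => ?_) ρW hρW
    · obtain ⟨σ, hσ⟩ := exists_perm_mem_front f f' _ (O.ι x) ((mem_piece f f' hT a _).mp x.2)
      refine ⟨ULift.up σ, ?_⟩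
      show O.ι ((ρO (ULift.up σ)).hom x) ∈ front f f' (a + b) a
      rw [← Scheme.Hom.comp_apply, hρO]
      exact hσ
    · have hgx' : SymProd.permHom _ _ g.down (O.ι x) ∈ front f f' (a + b) a := by
        have : O.ι ((ρO g).hom x) ∈ front f f' (a + b) a := hgx
        rwa [← Scheme.Hom.comp_apply, hρO] at this
      obtain ⟨p, hp⟩ := mem_range_block_of_front f f' g.down hx hgx'
      exact ⟨(ULift.up p.1, ULift.up p.2), ULift.ext _ _ hp⟩
  have hprod := Quot.isQuot_prod bA bB gA gB hY hA.isQuot hB.isQuot hA.over hB.over ρ₂ mf ms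
  have hW' := SchQuot.Transport.isQuot_of_iso hprod e₀ (Iso.refl _) ρW fun g => by
    show (e₀.hom ≫ m g ≫ e₀.inv) ≫ e₀.hom = e₀.hom ≫ m g
    simp
  refine exists_iso_of_isQuot hW hW' (V.ι ≫ h) (pullback.fst gA gB ≫ gA) ?_
  simp only [Category.assoc, Iso.refl_hom, Category.id_comp]
  rw [morphismRestrict_ι_assoc, hT.over, pullback.lift_fst_assoc, Category.assoc, hA.over]
  exact hwb.symm

end Groth.Agent.Lib.SymSplit.Piece
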