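import Groth.Prelude
import Groth.Agent.Lib.SymSplit.Piece

/-!
Classes of finite disjoint clopen decompositions.
-/

set_option autoImplicit false
universe u

open CategoryTheory CategoryTheory.Limits AlgebraicGeometry TopologicalSpace

noncomputable section

namespace Groth.Agent.Lib.SymSplit.Classes

variable {T Y : Scheme.{u}} (h : T ⟶ Y) [LocallyOfFiniteType h] [QuasiCompact h]

theorem isClosedImmersion_ι (U : T.Opens) (hU : IsClosed (U : Set T)) : IsClosedImmersion U.ι :=
  IsClosedImmersion.of_isPreimmersion U.ι (by rw [Scheme.Opens.range_ι]; exact hU)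

/-- The class of a finite disjoint union of clopen pieces. -/
theorem cl_eq_sum (V : ℕ → T.Opens) (hc : ∀ a, IsClosed (V a : Set T))
    (hd : ∀ a b, a ≠ b → ∀ t ∈ V a, t ∉ V b) :
    ∀ (N : ℕ) (U : T.Opens) (hUc : IsClosed (U : Set T)),
      (U : Set T) = ⋃ a ∈ Finset.range N, (V a : Set T) →
      haveI := isClosedImmersion_ι U hUc
      haveI := fun a => isClosedImmersion_ι (V a) (hc a)
      K0Var.cl (U.ι ≫ h) = ∑ a ∈ Finset.range N, K0Var.cl ((V a).ι ≫ h)
  | 0, U, hUc, hU => by
    haveI := isClosedImmersion_ι U hUc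
    have : IsEmpty U.toScheme := ⟨fun x => by
      have hx : (x.1 : T) ∈ (U : Set T) := x.2
      simp [hU] at hx⟩
    rw [K0Var.cl_eq_gen_cl, K0Var.Gen.cl_eq_zero_of_isEmpty (A := ⟨U.toScheme, U.ι ≫ h⟩),
      Finset.sum_range_zero]
  | N + 1, U, hUc, hU => by
    haveI := isClosedImmersion_ι U hUc
    haveI := fun a => isClosedImmersion_ι (V a) (hc a)
    let U' : T.Opens := U ⊓ ⟨(V N : Set T)ᶜ, (hc N).isOpen_compl⟩
    have hU'c : IsClosed (U' : Set T) := hUc.inter (V N).isOpen.isClosed_compl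
    haveI := isClosedImmersion_ι U' hU'c
    have hU' : (U' : Set T) = ⋃ a ∈ Finset.range N, (V a : Set T) := by
      ext t
      simp only [U', Opens.coe_inf, Opens.coe_mk, Set.mem_inter_iff, hU, Set.mem_iUnion,
        Finset.mem_range, Set.mem_compl_iff, SetLike.mem_coe, exists_prop]
      constructor
      · rintro ⟨⟨a, ha, hta⟩, hn⟩
        refine ⟨a, lt_of_le_of_ne (Nat.lt_succ_iff.mp ha) ?_, hta⟩
        rintro rfl
        exact hn hta
      · rintro ⟨a, ha, hta⟩
        exact ⟨⟨a, by omega, hta⟩, hd a N ha.ne t hta⟩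
    have hle : V N ≤ U := fun t ht => by
      show t ∈ (U : Set T)
      rw [hU]
      exact Set.mem_iUnion₂.mpr ⟨N, Finset.self_mem_range_succ N, ht⟩
    have hle' : U' ≤ U := inf_le_left
    haveI : IsClosedImmersion (T.homOfLE hle) := by
      refine IsClosedImmersion.of_isPreimmersion _ ?_
      have : Set.range (T.homOfLE hle) = U.ι ⁻¹' (V N : Set T) := by
        rw [← Scheme.Hom.coe_opensRange, Scheme.opensRange_homOfLE]
        rfl
      rw [this]
      exact (hc N).preimage U.ι.continuous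
    haveI : QuasiCompact (T.homOfLE hle') := by
      haveI : QuasiCompact (T.homOfLE hle' ≫ U.ι) := by rw [Scheme.homOfLE_ι]; infer_instance
      exact QuasiCompact.of_comp (T.homOfLE hle') U.ι
    rw [Finset.sum_range_succ, ← cl_eq_sum V hc hd N U' hU'c hU',
      K0Var.cl_scissor (U.ι ≫ h) (T.homOfLE hle) (T.homOfLE hle') (by
        rw [← Scheme.Hom.coe_opensRange, ← Scheme.Hom.coe_opensRange, Scheme.opensRange_homOfLE,
          Scheme.opensRange_homOfLE]
        ext x
        show U.ι x ∈ (V N : Set T) ↔ ¬ (U.ι x ∈ (U : Set T) ∧ U.ι x ∈ (V N : Set T)ᶜ)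
        have hx : U.ι x ∈ (U : Set T) := x.2
        simp [hx]), add_comm]
    congr 1 <;> exact K0Var.cl_congr _ _ (Iso.refl _)
      (by rw [Iso.refl_hom, Category.id_comp, Scheme.homOfLE_ι_assoc])

end Groth.Agent.Lib.SymSplit.Classes
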